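import Mathlib
import Cfsg.Agent.Lib.Helper14.PG63.Defs

/-!
# PG63 (S3664): package [FPF]
-/

set_option autoImplicit false

namespace Cfsg.Agent.Lib.Helper93.PG63

open Cfsg.Agent.Lib.Helper14.PG63 Matrix Polynomial

universe u

section
variable {F : Type u} [Field F]

/-- Bezout identity for the two quartics (`c ^ 3 = c ^ 2 + 1`, characteristic 2). -/
theorem bezout [CharP F 2] (c : F) (hc : c ^ 3 = c ^ 2 + 1) :
    (C (1 + c + c ^ 2) + C (1 + c + c ^ 2) * X ^ 2 + C (1 + c) * X ^ 3 : F[X]) *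
        (X ^ 4 + C c * X ^ 3 + C (c ^ 4) * X ^ 2 + C c * X + 1) +
      (C (c + c ^ 2) + X + C (1 + c) * X ^ 3) *
        (X ^ 4 + C (c ^ 2) * X ^ 3 + C c * X ^ 2 + C (c ^ 2) * X + 1) = 1 := by
  have h2 : (2 : F[X]) = 0 := by
    have h : (2 : F) = 0 := CharTwo.two_eq_zero
    have h' : (C (2 : F) : F[X]) = C 0 := congrArg (C : F → F[X]) h
    rw [C_0] at h'
    rw [← h']
    exact (map_ofNat C 2).symm
  have h3 : (C c : F[X]) ^ 3 = C c ^ 2 + 1 := by
    rw [← C_pow, hc, C_add, C_pow, C_1]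
  simp only [C_add, C_pow, C_1]
  generalize (C c : F[X]) = y at h3 ⊢
  linear_combination (3 * X + 5 * X ^ 2 + 4 * X ^ 3 + 5 * X ^ 4 + 3 * X ^ 5 + X ^ 6 + y * X +
    3 * y * X ^ 2 + y * X ^ 3 + 3 * y * X ^ 4 + 2 * y * X ^ 5 + 2 * y ^ 2 * X ^ 2 +
    2 * y ^ 2 * X ^ 4 + y ^ 2 * X ^ 5 + y ^ 3 * X ^ 2 + y ^ 3 * X ^ 4) * h3 +
    (2 * X + 3 * X ^ 2 + 3 * X ^ 3 + 3 * X ^ 4 + 2 * X ^ 5 + X ^ 6 + X ^ 7 + y + y * X +
    2 * y * X ^ 2 + 3 * y * X ^ 3 + 3 * y * X ^ 4 + 2 * y * X ^ 5 + y * X ^ 6 + y * X ^ 7 +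
    y ^ 2 + 2 * y ^ 2 * X + 5 * y ^ 2 * X ^ 2 + 3 * y ^ 2 * X ^ 3 + 6 * y ^ 2 * X ^ 4 +
    3 * y ^ 2 * X ^ 5 + 2 * y ^ 2 * X ^ 6) * h2

theorem aeval_quartic (a b d : F) (t : Matrix (Fin 4) (Fin 4) F) :
    aeval t (X ^ 4 + C a * X ^ 3 + C b * X ^ 2 + C d * X + 1 : F[X]) =
      t ^ 4 + a • t ^ 3 + b • t ^ 2 + d • t + 1 := by
  simp only [map_add, map_mul, map_pow, aeval_X, aeval_C, map_one, Algebra.smul_def]

end

theorem pkgFpf : PkgFpf.{u} := by
  intro hCH hCls hPMap F _ _ _ hcard t X hPt h13 hne hfix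
  classical
  obtain ⟨c, hcdef⟩ : ∃ c : F, c = t.trace := ⟨_, rfl⟩
  have hc8 : c ^ 8 = c := by rw [← hcard]; exact FiniteField.pow_card c
  rcases hCls hcard t hPt with ⟨_, h4⟩ | ⟨_, h5⟩ | ⟨_, h7⟩ | ⟨hc3, _⟩
  · exfalso; apply hne
    have e1 : t ^ 13 = (t ^ 4) ^ 3 * t := by rw [← pow_mul, ← pow_succ]
    rw [e1, h4, one_pow, one_mul] at h13
    exact h13
  · exfalso; apply hne
    have e1 : t ^ 13 = (t ^ 5) ^ 2 * t ^ 3 := by rw [← pow_mul, ← pow_add]
    rw [e1, h5, one_pow, one_mul] at h13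
    have e2 : t ^ 5 = t ^ 3 * t ^ 2 := by rw [← pow_add]
    rw [e2, h13, one_mul] at h5
    have e3 : t ^ 3 = t ^ 2 * t := by rw [← pow_succ]
    rw [e3, h5, one_mul] at h13
    exact h13
  · exfalso; apply hne
    have e1 : t ^ 13 = t ^ 7 * t ^ 6 := by rw [← pow_add]
    rw [e1, h7, one_mul] at h13
    have e2 : t ^ 7 = t ^ 6 * t := by rw [← pow_succ]
    rw [e2, h13, one_mul] at h7
    exact h7
  · rw [← hcdef] at hc3
    have hmt := hCH hcard t hPt
    rw [← hcdef] at hmt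
    have hPs : Pred (sqm F t) := by
      rw [sqm_eq]
      exact hPMap (frobenius F 2) t hPt
    have htr : (sqm F t).trace = c ^ 2 := by
      rw [hcdef]
      simp only [Matrix.trace, Matrix.diag, sqm_apply]
      exact (sum_pow_char 2 Finset.univ (fun i => t i i)).symm
    have hms := hCH hcard (sqm F t) hPs
    rw [htr] at hms
    have hc24 : (c ^ 2) ^ 4 = c := by rw [← pow_mul]; exact hc8
    rw [hc24] at hms
    obtain ⟨v, hv⟩ : ∃ v : Matrix (Fin 4) (Fin 4) F, v = (sqm F t)ᵀ := ⟨_, rfl⟩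
    have hmv : v ^ 4 + c ^ 2 • v ^ 3 + c • v ^ 2 + c ^ 2 • v + 1 = 0 := by
      have h := congrArg Matrix.transpose hms
      simp only [Matrix.transpose_add, Matrix.transpose_smul, Matrix.transpose_pow,
        Matrix.transpose_one, Matrix.transpose_zero] at h
      rw [hv]
      exact h
    rw [← hv] at hfix
    have hit : ∀ j : ℕ, t ^ j * X * v ^ j = X := by
      intro j
      induction j with
      | zero => simp
      | succ j ih =>
        have : t ^ (j + 1) * X * v ^ (j + 1) = t ^ j * (t * X * v) * v ^ j := by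
          rw [pow_succ, pow_succ']
          simp only [mul_assoc]
        rw [this, hfix, ih]
    have hshift : ∀ i j : ℕ, t ^ (i + j) * X * v ^ j = t ^ i * X := by
      intro i j
      rw [pow_add, mul_assoc (t ^ i) (t ^ j) X, mul_assoc (t ^ i) (t ^ j * X) (v ^ j), hit j]
    have key : (t ^ 4 + c ^ 2 • t ^ 3 + c • t ^ 2 + c ^ 2 • t + 1) * X = 0 := by
      have h0 : t ^ 4 * X * (v ^ 4 + c ^ 2 • v ^ 3 + c • v ^ 2 + c ^ 2 • v + 1) = 0 := by
        rw [hmv, mul_zero]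
      have a4 : t ^ 4 * X * v ^ 4 = X := hit 4
      have a3 : t ^ 4 * X * v ^ 3 = t * X := by
        have := hshift 1 3
        rwa [pow_one] at this
      have a2 : t ^ 4 * X * v ^ 2 = t ^ 2 * X := hshift 2 2
      have a1 : t ^ 4 * X * v = t ^ 3 * X := by
        have := hshift 3 1
        rwa [pow_one] at this
      rw [mul_add, mul_add, mul_add, mul_add, mul_one, mul_smul_comm, mul_smul_comm,
        mul_smul_comm, a4, a3, a2, a1] at h0
      rw [add_mul, add_mul, add_mul, add_mul, one_mul, smul_mul_assoc, smul_mul_assoc,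
        smul_mul_assoc]
      rw [← h0]
      abel
    have hb := congrArg (Polynomial.aeval t) (bezout c hc3)
    rw [map_add, map_mul, map_mul, aeval_quartic, aeval_quartic, map_one] at hb
    rw [← one_mul X, ← hb, add_mul, hmt, mul_zero, zero_mul, zero_add, mul_assoc, key, mul_zero]

end Cfsg.Agent.Lib.Helper93.PG63
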